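/- Deligne's formula for modules along any open immersion. -/
import Groth.Prelude.Def_Dual3
import Groth.Agent.S9515
import Groth.Agent.S9516
import Groth.Agent.IdealMulSec.ArtinRees

set_option autoImplicit false
set_option backward.isDefEq.respectTransparency false
set_option linter.style.haveILetI false
universe u

open CategoryTheory CategoryTheory.Limits AlgebraicGeometry Filter

attribute [local instance] HasDerivedCategory.standard

noncomputable section

namespace Groth.Agent.DeligneLift

variable {X U : Scheme.{u}} (I : X.IdealSheafData) (j : U ⟶ X) [IsOpenImmersion j]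

theorem exists_incl {M : X.Modules} (hM : Coh.IsQCoh M) {m n : ℕ} (hmn : m ≤ n) :
    ∃ t : (Dual3.idealMul (I ^ n)).obj M ⟶ (Dual3.idealMul (I ^ m)).obj M,
      t ≫ Dual3.idealMulι (I ^ m) M = Dual3.idealMulι (I ^ n) M := by
  have h := IdealMulSec.mk_le_mk (fun V : X.affineOpens => V.1) (fun V => V.2) (fun x => by
      obtain ⟨V, hV, hx, -⟩ := exists_isAffineOpen_mem_and_subset (X := X) (U := ⊤) (x := x) trivial
      exact ⟨⟨V, hV⟩, hx⟩)
    (IdealMulSec.isQCoh_idealMul (I ^ n) hM) (Dual3.idealMulι (I ^ n) M) (Dual3.idealMulι (I ^ m) M) fun V => by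
      rw [IdealMulSec.range_idealMulι_pow I hM n V, IdealMulSec.range_idealMulι_pow I hM m V]
      exact Submodule.smul_mono_left (Ideal.pow_le_pow_right hmn)
  exact ⟨Subobject.ofMkLEMk _ _ h, Subobject.ofMkLEMk_comp h⟩

/-- restriction along an open immersion through restriction to its image -/
def restrIso : Scheme.Modules.restrictFunctor j ≅
    Scheme.Modules.restrictFunctor j.opensRange.ι ⋙ Scheme.Modules.pushforward j.isoOpensRange.inv :=
  let U' := j.opensRange
  let a := j.isoOpensRange
  let P := Scheme.Modules.pushforward a.inv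
  Scheme.Modules.restrictFunctorCongr j.isoOpensRange_hom_ι.symm ≪≫
    Scheme.Modules.restrictFunctorComp a.hom U'.ι ≪≫
    Functor.isoWhiskerLeft _ ((Functor.leftUnitor _).symm ≪≫
      Functor.isoWhiskerRight ((Scheme.Modules.pushforwardId _).symm ≪≫
        Scheme.Modules.pushforwardCongr a.inv_hom_id.symm ≪≫ (Scheme.Modules.pushforwardComp a.inv a.hom).symm) _ ≪≫
      Functor.associator _ _ _ ≪≫
      Functor.isoWhiskerLeft P (Scheme.Modules.restrictFunctorAdjCounitIso a.hom) ≪≫ Functor.rightUnitor _)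

theorem isEquivalence_pushforward_iso {V W : Scheme.{u}} (e : V ≅ W) :
    (Scheme.Modules.pushforward e.hom).IsEquivalence :=
  (CategoryTheory.Equivalence.mk (Scheme.Modules.pushforward e.hom) (Scheme.Modules.pushforward e.inv)
    ((Scheme.Modules.pushforwardId _).symm ≪≫ Scheme.Modules.pushforwardCongr e.hom_inv_id.symm ≪≫
      (Scheme.Modules.pushforwardComp e.hom e.inv).symm)
    ((Scheme.Modules.pushforwardComp e.inv e.hom) ≪≫ Scheme.Modules.pushforwardCongr e.inv_hom_id ≪≫
      Scheme.Modules.pushforwardId _)).isEquivalence_functor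

theorem exists_opens_hom {G F : X.Modules}
    (φ : (Scheme.Modules.restrictFunctor j).obj G ⟶ (Scheme.Modules.restrictFunctor j).obj F) :
    ∃ φ₀ : (Scheme.Modules.restrictFunctor j.opensRange.ι).obj G ⟶
        (Scheme.Modules.restrictFunctor j.opensRange.ι).obj F,
      φ = (restrIso j).hom.app G ≫ (Scheme.Modules.pushforward j.isoOpensRange.inv).map φ₀ ≫
        (restrIso j).inv.app F := by
  haveI := isEquivalence_pushforward_iso j.isoOpensRange.symm
  refine ⟨(Scheme.Modules.pushforward j.isoOpensRange.symm.hom).preimage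
    ((restrIso j).inv.app G ≫ φ ≫ (restrIso j).hom.app F), ?_⟩
  erw [Functor.map_preimage]
  simp

theorem map_restr {G F : X.Modules} (f : G ⟶ F) :
    (Scheme.Modules.restrictFunctor j).map f = (restrIso j).hom.app G ≫
      (Scheme.Modules.pushforward j.isoOpensRange.inv).map
        ((Scheme.Modules.restrictFunctor j.opensRange.ι).map f) ≫ (restrIso j).inv.app F := by
  erw [← (restrIso j).hom.naturality_assoc f]
  simp

variable (hU : (j.opensRange : Set X) = (I.support : Set X)ᶜ) [IsNoetherian X]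
include hU

theorem eventually_lift {G F : X.Modules} (hG : Coh.IsCoh G) (hF : Coh.IsQCoh F)
    (φ : (Scheme.Modules.restrictFunctor j).obj G ⟶ (Scheme.Modules.restrictFunctor j).obj F) :
    ∀ᶠ n in atTop, ∃ ψ : (Dual3.idealMul (I ^ n)).obj G ⟶ F,
      (Scheme.Modules.restrictFunctor j).map ψ =
        (Scheme.Modules.restrictFunctor j).map (Dual3.idealMulι (I ^ n) G) ≫ φ := by
  obtain ⟨φ₀, rfl⟩ := exists_opens_hom j φ
  obtain ⟨n, ψ, hψ⟩ := Groth.Agent.S9515.result X F G hF hG I j.opensRange hU φ₀
  refine eventually_atTop.2 ⟨n, fun m hm => ?_⟩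
  obtain ⟨t, ht⟩ := exists_incl I hG.1 hm
  refine ⟨t ≫ ψ, ?_⟩
  rw [map_restr j (t ≫ ψ), map_restr j (Dual3.idealMulι (I ^ m) G), Functor.map_comp, hψ,
    ← Functor.map_comp_assoc (Scheme.Modules.restrictFunctor j.opensRange.ι), ht, Functor.map_comp]
  simp

theorem eventually_zero {G F : X.Modules} (hG : Coh.IsCoh G) (hF : Coh.IsQCoh F) {n : ℕ}
    (ψ : (Dual3.idealMul (I ^ n)).obj G ⟶ F) (hψ : (Scheme.Modules.restrictFunctor j).map ψ = 0) :
    ∀ᶠ m in atTop, ∀ t : (Dual3.idealMul (I ^ m)).obj G ⟶ (Dual3.idealMul (I ^ n)).obj G,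
      t ≫ Dual3.idealMulι (I ^ n) G = Dual3.idealMulι (I ^ m) G → t ≫ ψ = 0 := by
  haveI := isEquivalence_pushforward_iso j.isoOpensRange.symm
  have h0 : (Scheme.Modules.restrictFunctor j.opensRange.ι).map ψ = 0 := by
    refine (Scheme.Modules.pushforward j.isoOpensRange.symm.hom).map_injective ?_
    rw [Functor.map_zero]
    have h := map_restr j ψ
    rw [hψ] at h
    have h' := congrArg (fun f => (restrIso j).inv.app _ ≫ f ≫ (restrIso j).hom.app _) h
    simp at h'
    exact h'.symm
  obtain ⟨N, ι, hι, hι0⟩ := Groth.Agent.S9516.result X F G hF hG I j.opensRange hU n ψ h0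
  refine eventually_atTop.2 ⟨N, fun m hm t ht => ?_⟩
  obtain ⟨s, hs⟩ := exists_incl I hG.1 hm
  have h : t = s ≫ ι := by
    rw [← cancel_mono (Dual3.idealMulι (I ^ n) G), ht, Category.assoc, hι, hs]
  rw [h, Category.assoc, hι0, comp_zero]

theorem isIso_map_ι {G : X.Modules} (hG : Coh.IsCoh G) (n : ℕ) :
    IsIso ((Scheme.Modules.restrictFunctor j).map (Dual3.idealMulι (I ^ n) G)) := by
  haveI : IsIso ((Scheme.Modules.restrictFunctor j.opensRange.ι).map (Dual3.idealMulι (I ^ n) G)) := by
    refine W7Hull.isIso_restrict_of_bijective _ _ fun x hx => ?_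
    haveI : Mono (Dual3.idealMulι (I ^ n) G) := inferInstance
    refine ⟨W7Hull.st_injective _ x, fun z => LinearMap.mem_range.1 (W7Hull.st_exact_kernel _ x z ?_)⟩
    refine @Subsingleton.elim _ (KFlat.subsingleton_stalk_push (f := (I ^ n).subschemeι) _ fun hx' => ?_) _ _
    rw [Scheme.IdealSheafData.range_subschemeι] at hx'
    cases n with
    | zero => rw [pow_zero, Scheme.IdealSheafData.one_eq_top, Scheme.IdealSheafData.support_top] at hx'; exact hx'
    | succ k =>
      rw [Scheme.IdealSheafData.support_pow_succ] at hx'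
      exact (hU ▸ hx : x ∈ (I.support : Set X)ᶜ) hx'
  rw [map_restr j (Dual3.idealMulι (I ^ n) G)]
  infer_instance

end Groth.Agent.DeligneLift
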