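/- Bounded below quasi-coherent objects by injective quasi-coherent complexes. -/
import Groth.Agent.SubRes.Bounded
import Groth.Agent.S1104
import Groth.Agent.QCGen.Basic
import Groth.Agent.S7769
import Mathlib.Algebra.Homology.Factorizations.CM5a

set_option autoImplicit false
set_option backward.isDefEq.respectTransparency false
set_option backward.isDefEq.respectTransparency.types false
set_option linter.style.haveILetI false
universe u

open CategoryTheory CategoryTheory.Limits AlgebraicGeometry

attribute [local instance] HasDerivedCategory.standard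

noncomputable section

namespace Groth.Agent.DeligneLift

theorem exists_injective_qcoh_rep (X : Scheme.{u}) [IsNoetherian X] (L : DCoh.D X) (hL : DCoh.IsQCohD L) (c : ℤ)
    (hc : ∀ i : ℤ, i < c → IsZero (DCoh.HD L i)) :
    ∃ J : CochainComplex X.Modules ℤ, J.IsStrictlyGE c ∧ (∀ q, Injective (J.X q)) ∧ (∀ q, Coh.IsQCoh (J.X q)) ∧
      Nonempty (DerivedCategory.Q.obj J ≅ L) := by
  haveI : (SubRes.qP' X).ContainsZero := SubRes.qc_containsZero X
  haveI : (SubRes.qP' X).IsClosedUnderKernels := SubRes.qc_kernels X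
  haveI : (SubRes.qP' X).IsClosedUnderCokernels := SubRes.qc_cokernels X
  haveI : (SubRes.qP' X).IsClosedUnderFiniteProducts := SubRes.qc_finiteProducts X
  haveI : PreservesFiniteLimits (SubRes.qP' X).ι := SubRes.qc_ι_limits X
  haveI : PreservesFiniteColimits (SubRes.qP' X).ι := SubRes.qc_ι_colimits X
  obtain ⟨M, ⟨eM⟩⟩ := ((Groth.Agent.S1104.result X).2.2 L).1 hL
  haveI : ((SubRes.qP' X).ι.mapDerivedCategory.obj M).IsGE c := (DerivedCategory.isGE_iff _ c).2 fun i hi =>
    (hc i hi).of_iso ((DerivedCategory.homologyFunctor X.Modules i).mapIso eM)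
  haveI := SubRes.isGE_of_map (SubRes.qP' X).ι M c inferInstance
  obtain ⟨C, hC, ⟨eC⟩⟩ := DerivedCategory.exists_iso_Q_obj_of_isGE M c
  haveI := hC
  haveI : EnoughInjectives (SubRes.qP' X).FullSubcategory := Groth.Agent.QCGen.enoughInjectives X
  obtain ⟨J, q, hq, hJ, hJc⟩ := CochainComplex.Plus.modelCategoryQuillen.exists_quasiIso_injective C c
  haveI := hq; haveI := hJc
  refine ⟨((SubRes.qP' X).ι.mapHomologicalComplex (ComplexShape.up ℤ)).obj J, ?_,
    fun i => Groth.Agent.S7769.result X (J.X i) (hJ i), fun i => (J.X i).2,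
    ⟨((SubRes.qP' X).ι.mapDerivedCategoryFactors.app J).symm ≪≫
      (SubRes.qP' X).ι.mapDerivedCategory.mapIso ((asIso (DerivedCategory.Q.map q)).symm ≪≫ eC.symm) ≪≫ eM⟩⟩
  exact (CochainComplex.isStrictlyGE_iff _ c).2 fun i hi =>
    (SubRes.qP' X).ι.map_isZero (J.isZero_of_isStrictlyGE c i hi)

end Groth.Agent.DeligneLift
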