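/- Deligne's lifting lemma in the derived category. -/
import Groth.Agent.DeligneLift.Hom
import Groth.Agent.DeligneLift.Rep
import Groth.Agent.DQPush.OpenBC
import Groth.Agent.KInj.Derived

set_option autoImplicit false
set_option backward.isDefEq.respectTransparency false
set_option linter.style.haveILetI false
set_option maxHeartbeats 1000000
universe u

open CategoryTheory CategoryTheory.Limits AlgebraicGeometry Filter

attribute [local instance] HasDerivedCategory.standard

noncomputable section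

namespace Groth.Agent.DeligneLift

theorem eventually_all_int {P : ℤ → ℕ → Prop} (lo hi : ℤ) (h₀ : ∀ q, (q < lo ∨ hi < q) → ∀ n, P q n)
    (h : ∀ q, ∀ᶠ n in atTop, P q n) : ∀ᶠ n in atTop, ∀ q, P q n := by
  have h1 : ∀ᶠ n in atTop, ∀ q ∈ Finset.Icc lo hi, P q n :=
    (Filter.eventually_all_finset (Finset.Icc lo hi)).2 fun q _ => h q
  refine h1.mono fun n hn q => ?_
  by_cases hq : q ∈ Finset.Icc lo hi
  · exact hn q hq
  · exact h₀ q (by simp only [Finset.mem_Icc, not_and_or, not_le] at hq; exact hq) n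

variable {X U : Scheme.{u}} [AlgebraicGeometry.IsNoetherian X] (I : X.IdealSheafData) (j : U ⟶ X) [IsOpenImmersion j]
  (hU : (j.opensRange : Set X) = (I.support : Set X)ᶜ)
  (F J : CochainComplex X.Modules ℤ) (lo hi : ℤ) (hF : ∀ q : ℤ, (q < lo ∨ hi < q) → IsZero (F.X q))
  (hFc : ∀ q, Coh.IsCoh (F.X q)) (hJ : ∀ q, Coh.IsQCoh (J.X q))

omit [AlgebraicGeometry.IsNoetherian X] in
include hF in
theorem isZero_idealMul_X (n : ℕ) (q : ℤ) (hq : q < lo ∨ hi < q) :
    IsZero ((Dual3.idealMul (I ^ n)).obj (F.X q)) := by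
  haveI : Mono (Dual3.idealMulι (I ^ n) (F.X q)) := inferInstance
  exact IsZero.of_mono (Dual3.idealMulι (I ^ n) (F.X q)) (hF q hq)

/-- restriction of complexes -/
abbrev rC : CochainComplex X.Modules ℤ ⥤ CochainComplex U.Modules ℤ :=
  (Scheme.Modules.restrictFunctor j).mapHomologicalComplex (ComplexShape.up ℤ)

include hFc in
theorem exists_inclC {m n : ℕ} (h : m ≤ n) :
    ∃ t : (Dual3.deligne I n).obj F ⟶ (Dual3.deligne I m).obj F,
      t ≫ Dual3.deligneι I m F = Dual3.deligneι I n F := by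
  choose t ht using fun q => exists_incl I (hFc q).1 h
  refine ⟨{ f := t, comm' := fun i k _ => ?_ }, HomologicalComplex.hom_ext _ _ ht⟩
  show t i ≫ (Dual3.idealMul (I ^ m)).map (F.d i k) = (Dual3.idealMul (I ^ n)).map (F.d i k) ≫ t k
  rw [← cancel_mono (Dual3.idealMulι (I ^ m) (F.X k)), Category.assoc, Category.assoc, Dual3.idealMul_map_ι,
    ht k, Dual3.idealMul_map_ι, ← Category.assoc, ht i]

include hU hF hFc hJ in
theorem exists_chain_lift (g : (rC j).obj F ⟶ (rC j).obj J) :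
    ∃ (n : ℕ) (φ : (Dual3.deligne I n).obj F ⟶ J), (rC j).map φ = (rC j).map (Dual3.deligneι I n F) ≫ g := by
  let R := Scheme.Modules.restrictFunctor j
  have h1 : ∀ᶠ n in atTop, ∀ q, ∃ ψ : (Dual3.idealMul (I ^ n)).obj (F.X q) ⟶ J.X q,
      R.map ψ = R.map (Dual3.idealMulι (I ^ n) (F.X q)) ≫ g.f q :=
    eventually_all_int lo hi (fun q hq n => ⟨0, (R.map_isZero (isZero_idealMul_X I F lo hi hF n q hq)).eq_of_src _ _⟩)
      fun q => eventually_lift I j hU (hFc q) (hJ q) (g.f q)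
  obtain ⟨N, hN⟩ := h1.exists
  choose ψ hψ using hN
  have h2 : ∀ q, R.map (ψ q ≫ J.d q (q + 1) - (Dual3.idealMul (I ^ N)).map (F.d q (q + 1)) ≫ ψ (q + 1)) = 0 :=
    fun q => by
    have hg : g.f q ≫ R.map (J.d q (q + 1)) = R.map (F.d q (q + 1)) ≫ g.f (q + 1) := g.comm q (q + 1)
    rw [Functor.map_sub, Functor.map_comp, Functor.map_comp, hψ, hψ, Category.assoc, hg, ← R.map_comp_assoc,
      ← R.map_comp_assoc, Dual3.idealMul_map_ι, sub_self]
  have h3 : ∀ᶠ M in atTop, N ≤ M ∧ ∀ q, ∀ t : (Dual3.idealMul (I ^ M)).obj (F.X q) ⟶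
      (Dual3.idealMul (I ^ N)).obj (F.X q),
      t ≫ Dual3.idealMulι (I ^ N) (F.X q) = Dual3.idealMulι (I ^ M) (F.X q) →
        t ≫ (ψ q ≫ J.d q (q + 1) - (Dual3.idealMul (I ^ N)).map (F.d q (q + 1)) ≫ ψ (q + 1)) = 0 :=
    (eventually_ge_atTop N).and (eventually_all_int lo hi
      (fun q hq M t _ => (isZero_idealMul_X I F lo hi hF M q hq).eq_of_src _ _)
      fun q => eventually_zero I j hU (hFc q) (hJ (q + 1)) _ (h2 q))
  obtain ⟨M, hM, h4⟩ := h3.exists
  obtain ⟨t, ht⟩ := exists_inclC I F hFc hM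
  refine ⟨M, { f := fun q => t.f q ≫ ψ q, comm' := fun q r hr => ?_ }, HomologicalComplex.hom_ext _ _ fun q => ?_⟩
  · obtain rfl : q + 1 = r := hr
    have h5 := h4 q (t.f q) (congrArg (fun u => HomologicalComplex.Hom.f u q) ht)
    have hc : t.f q ≫ (Dual3.idealMul (I ^ N)).map (F.d q (q + 1)) =
        ((Dual3.deligne I M).obj F).d q (q + 1) ≫ t.f (q + 1) := t.comm q (q + 1)
    rw [Preadditive.comp_sub, sub_eq_zero, reassoc_of% hc] at h5
    simpa using h5
  · show R.map (t.f q ≫ ψ q) = R.map (Dual3.idealMulι (I ^ M) (F.X q)) ≫ g.f q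
    rw [Functor.map_comp, hψ, ← R.map_comp_assoc]
    congr 2
    exact congrArg (fun u => HomologicalComplex.Hom.f u q) ht

include hU hF hFc hJ in
theorem eventually_null (n : ℕ) (χ : (Dual3.deligne I n).obj F ⟶ J) (H : Homotopy ((rC j).map χ) 0) :
    ∀ᶠ m in atTop, ∀ t : (Dual3.deligne I m).obj F ⟶ (Dual3.deligne I n).obj F,
      t ≫ Dual3.deligneι I n F = Dual3.deligneι I m F → Nonempty (Homotopy (t ≫ χ) 0) := by
  let R := Scheme.Modules.restrictFunctor j
  haveI : ∀ q, IsIso (R.map (Dual3.idealMulι (I ^ n) (F.X q))) := fun q => isIso_map_ι I j hU (hFc q) n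
  -- lift the components of the homotopy
  have h1 : ∀ᶠ N in atTop, n ≤ N ∧ ∀ q, ∃ h' : (Dual3.idealMul (I ^ N)).obj (F.X q) ⟶ J.X (q - 1),
      R.map h' = R.map (Dual3.idealMulι (I ^ N) (F.X q)) ≫ inv (R.map (Dual3.idealMulι (I ^ n) (F.X q))) ≫
        H.hom q (q - 1) :=
    (eventually_ge_atTop n).and (eventually_all_int lo hi
      (fun q hq N => ⟨0, (R.map_isZero (isZero_idealMul_X I F lo hi hF N q hq)).eq_of_src _ _⟩)
      fun q => eventually_lift I j hU (hFc q) (hJ (q - 1)) _)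
  obtain ⟨N, hnN, hN⟩ := h1.exists
  choose h' hh' using hN
  obtain ⟨s, hs⟩ := exists_inclC I F hFc hnN
  have hs' : ∀ q, s.f q ≫ Dual3.idealMulι (I ^ n) (F.X q) = Dual3.idealMulι (I ^ N) (F.X q) := fun q =>
    congrArg (fun u => HomologicalComplex.Hom.f u q) hs
  have hh'' : ∀ q, R.map (h' q) = R.map (s.f q) ≫ H.hom q (q - 1) := fun q => by
    rw [hh', ← hs' q, Functor.map_comp, Category.assoc, IsIso.hom_inv_id_assoc]
  let hm : ∀ p r, (ComplexShape.up ℤ).Rel r p → (((Dual3.deligne I N).obj F).X p ⟶ J.X r) := fun p r hpr =>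
    h' p ≫ eqToHom (congrArg J.X (show p - 1 = r by simp only [ComplexShape.up_Rel] at hpr; omega))
  let E := s ≫ χ - Homotopy.nullHomotopicMap' hm
  have hE : ∀ q, R.map (E.f q) = 0 := fun q => by
    have hH : R.map (χ.f q) = (R.map (((Dual3.deligne I n).obj F).d q (q + 1)) ≫ H.hom (q + 1) q :
          R.obj (((Dual3.deligne I n).obj F).X q) ⟶ R.obj (J.X q)) +
        (H.hom q (q - 1) ≫ R.map (J.d (q - 1) q) :
          R.obj (((Dual3.deligne I n).obj F).X q) ⟶ R.obj (J.X q)) + 0 := by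
      have h := H.comm q
      rw [dNext_eq _ (show (ComplexShape.up ℤ).Rel q (q + 1) from rfl),
        prevD_eq _ (show (ComplexShape.up ℤ).Rel (q - 1) q from sub_add_cancel q 1)] at h
      exact h
    have hsd : R.map (((Dual3.deligne I N).obj F).d q (q + 1)) ≫ R.map (s.f (q + 1)) =
        R.map (s.f q) ≫ R.map (((Dual3.deligne I n).obj F).d q (q + 1)) := by
      rw [← Functor.map_comp, ← Functor.map_comp, s.comm]
    have key : ∀ p (e : p - 1 = q) (d : ((Dual3.deligne I N).obj F).X q ⟶ ((Dual3.deligne I N).obj F).X p),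
        R.map (d ≫ h' p ≫ eqToHom (congrArg J.X e)) = R.map d ≫ R.map (s.f p) ≫ H.hom p q := fun p e d => by
      subst e
      simp [hh'']
    show R.map ((s ≫ χ).f q - (Homotopy.nullHomotopicMap' hm).f q) = 0
    rw [Homotopy.nullHomotopicMap'_f (show (ComplexShape.up ℤ).Rel (q - 1) q from sub_add_cancel q 1)
      (show (ComplexShape.up ℤ).Rel q (q + 1) from rfl), Functor.map_sub, Functor.map_add, key (q + 1) (add_sub_cancel_right q 1),
      HomologicalComplex.comp_f, Functor.map_comp, hH, add_zero, Preadditive.comp_add]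
    simp only [hm, eqToHom_refl, Category.comp_id, Functor.map_comp, hh'']
    rw [reassoc_of% hsd]
    simp only [Category.assoc]
    abel
  have h3 : ∀ᶠ M in atTop, N ≤ M ∧ ∀ q, ∀ t : (Dual3.idealMul (I ^ M)).obj (F.X q) ⟶
      (Dual3.idealMul (I ^ N)).obj (F.X q),
      t ≫ Dual3.idealMulι (I ^ N) (F.X q) = Dual3.idealMulι (I ^ M) (F.X q) → t ≫ E.f q = 0 :=
    (eventually_ge_atTop N).and (eventually_all_int lo hi
      (fun q hq M t _ => (isZero_idealMul_X I F lo hi hF M q hq).eq_of_src _ _)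
      fun q => eventually_zero I j hU (hFc q) (hJ q) (E.f q) (hE q))
  refine h3.mono fun M hM t ht => ?_
  obtain ⟨t', ht'⟩ := exists_inclC I F hFc hM.1
  have htt : t = t' ≫ s := HomologicalComplex.hom_ext _ _ fun q => by
    rw [← cancel_mono (Dual3.idealMulι (I ^ n) (F.X q))]
    exact (congrArg (fun u => HomologicalComplex.Hom.f u q) ht).trans
      (((Category.assoc _ _ _).trans ((congrArg (t'.f q ≫ ·) (hs' q)).trans
        (congrArg (fun u => HomologicalComplex.Hom.f u q) ht'))).symm)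
  have hE0 : t' ≫ E = 0 := HomologicalComplex.hom_ext _ _ fun q =>
    hM.2 q (t'.f q) (congrArg (fun u => HomologicalComplex.Hom.f u q) ht')
  rw [Preadditive.comp_sub, sub_eq_zero, ← Category.assoc, ← htt] at hE0
  exact ⟨(Homotopy.ofEq hE0).trans (((Homotopy.nullHomotopy' hm).compLeft t').trans (Homotopy.ofEq (by simp)))⟩

variable [PreservesFiniteLimits (Scheme.Modules.restrictFunctor j)]

include hU hF hFc in
/-- Deligne's lifting lemma -/
theorem main (L : DCoh.D X) (hL : DCoh.IsQCohD L) (c : ℤ) (hc : ∀ i : ℤ, i < c → IsZero (DCoh.HD L i)) :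
    (∀ α : (DCoh.restrictD j).obj (DCoh.toD X F) ⟶ (DCoh.restrictD j).obj L,
      ∃ (n : ℕ) (φ : DCoh.toD X ((Dual3.deligne I n).obj F) ⟶ L),
        (DCoh.restrictD j).map (DerivedCategory.Q.map (Dual3.deligneι I n F)) ≫ α = (DCoh.restrictD j).map φ) ∧
    ∀ (n : ℕ) (φ ψ : DCoh.toD X ((Dual3.deligne I n).obj F) ⟶ L),
      (DCoh.restrictD j).map φ = (DCoh.restrictD j).map ψ →
      ∃ m : ℕ, n ≤ m ∧ ∀ t : (Dual3.deligne I m).obj F ⟶ (Dual3.deligne I n).obj F,
        t ≫ Dual3.deligneι I n F = Dual3.deligneι I m F →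
          DerivedCategory.Q.map t ≫ φ = DerivedCategory.Q.map t ≫ ψ := by
  obtain ⟨J, hJc, hJi, hJq, ⟨e⟩⟩ := exists_injective_qcoh_rep X L hL c hc
  haveI := hJc; haveI := hJi
  haveI : J.IsKInjective := CochainComplex.isKInjective_of_injective J c
  haveI : CochainComplex.IsKInjective ((rC j).obj J) := DQPush.isKInjective_restrict_open j J inferInstance
  let G := DCoh.restrictD j
  let fac := (Scheme.Modules.restrictFunctor j).mapDerivedCategoryFactors
  refine ⟨fun α => ?_, fun n φ ψ h => ?_⟩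
  · obtain ⟨g, hg⟩ := KInj.Q_map_surjective (fac.inv.app F ≫ α ≫ G.map e.inv ≫ fac.hom.app J)
    obtain ⟨n, f, hf⟩ := exists_chain_lift I j hU F J lo hi hF hFc hJq g
    refine ⟨n, DerivedCategory.Q.map f ≫ e.hom, ?_⟩
    have hn : ∀ {A B : CochainComplex X.Modules ℤ} (a : A ⟶ B),
        G.map (DerivedCategory.Q.map a) ≫ fac.hom.app B = fac.hom.app A ≫ DerivedCategory.Q.map ((rC j).map a) :=
      fun a => Functor.mapDerivedCategoryFactors_hom_naturality (Scheme.Modules.restrictFunctor j) a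
    have h2 : G.map (DerivedCategory.Q.map (Dual3.deligneι I n F)) ≫ α ≫ G.map e.inv ≫ fac.hom.app J =
        G.map (DerivedCategory.Q.map f) ≫ fac.hom.app J := by
      rw [hn f]
      erw [hf]
      rw [Functor.map_comp, hg]
      erw [← reassoc_of% (hn (Dual3.deligneι I n F))]
      erw [Iso.hom_inv_id_app_assoc]
    rw [← cancel_mono (G.map e.inv ≫ fac.hom.app J), Category.assoc, h2, G.map_comp, Category.assoc,
      ← G.map_comp_assoc e.hom, e.hom_inv_id, CategoryTheory.Functor.map_id, Category.id_comp]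
  · obtain ⟨χ, hχ⟩ := KInj.Q_map_surjective ((φ - ψ) ≫ e.inv)
    have h0 : DerivedCategory.Q.map ((rC j).map χ) =
        DerivedCategory.Q.map (0 : (rC j).obj ((Dual3.deligne I n).obj F) ⟶ (rC j).obj J) := by
      rw [Functor.map_zero, ← cancel_epi (fac.hom.app _)]
      erw [← Functor.mapDerivedCategoryFactors_hom_naturality (Scheme.Modules.restrictFunctor j) χ]
      rw [hχ, Functor.map_comp, Functor.map_sub, h, sub_self, zero_comp, zero_comp, comp_zero]
    obtain ⟨H⟩ := KInj.nonempty_homotopy_of_Q_map_eq h0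
    obtain ⟨m, hm, hm'⟩ := ((eventually_ge_atTop n).and
      (eventually_null I j hU F J lo hi hF hFc hJq n χ ((Homotopy.ofEq (sub_zero _).symm).trans H))).exists
    refine ⟨m, hm, fun t ht => ?_⟩
    obtain ⟨H'⟩ := hm' t ht
    have h1 := DerivedCategory.Q_map_eq_of_homotopy _ H'
    rw [Functor.map_zero, Functor.map_comp, hχ, ← Category.assoc] at h1
    rw [← sub_eq_zero, ← Preadditive.comp_sub]
    exact (cancel_mono e.inv).1 (h1.trans zero_comp.symm)

end Groth.Agent.DeligneLift
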